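/-
A normal subgroup containing the centralisers of its non-identity elements is nilpotent.
-/
import Mathlib
import Cfsg.Agent.S0033

set_option autoImplicit false

open Cfsg

namespace H16

universe u

theorem frob_kernel_nilpotent {N : Type u} [Group N] [Finite N] (H : Subgroup N) [hH : H.Normal]
    (hne : H ≠ ⊤) (hC : ∀ h ∈ H, h ≠ 1 → Subgroup.centralizer ({h} : Set N) ≤ H) :
    Group.IsNilpotent H := by
  haveI : Nontrivial (N ⧸ H) := by
    rw [← Finite.one_lt_card_iff_nontrivial, ← Subgroup.index_eq_card]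
    exact Subgroup.one_lt_index_of_ne_top hne
  obtain ⟨p, hp, hpd⟩ := Nat.exists_prime_and_dvd (Finite.one_lt_card (α := N ⧸ H)).ne'
  haveI := Fact.mk hp
  obtain ⟨q, hq⟩ := exists_prime_orderOf_dvd_card' (G := N ⧸ H) p hpd
  obtain ⟨z, rfl⟩ := QuotientGroup.mk_surjective q
  have hz : z ∉ H := fun h => hp.ne_one (by
    rw [← hq, (QuotientGroup.eq_one_iff z).mpr h, orderOf_one])
  have hzp : z ^ p = 1 := by
    by_contra h1
    have hm : z ^ p ∈ H := by
      rw [← QuotientGroup.eq_one_iff, QuotientGroup.mk_pow, ← hq, pow_orderOf_eq_one]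
    exact hz (hC _ hm h1 (Subgroup.mem_centralizer_singleton_iff.mpr (by rw [← pow_succ', ← pow_succ])))
  rcases subsingleton_or_nontrivial H with hs | hn
  · haveI := hs; infer_instance
  let φ : MulAut H := MulAut.conjNormal z
  have hfix : ∀ h : H, φ h = h → h = 1 := by
    intro h e
    by_contra h1
    refine hz (hC h h.2 (fun e1 => h1 (Subtype.ext e1)) (Subgroup.mem_centralizer_singleton_iff.mpr ?_))
    have e' : z * (h : N) * z⁻¹ = h := by
      simpa [φ, MulAut.conjNormal_apply] using congrArg Subtype.val e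
    calc z * (h : N) = z * (h : N) * z⁻¹ * z := by group
      _ = (h : N) * z := by rw [e']
  have hord : orderOf φ = p := orderOf_eq_prime (by rw [← map_pow, hzp, map_one]) fun h => by
    obtain ⟨k, hk⟩ := exists_ne (1 : H)
    exact hk (hfix k (by rw [h]; rfl))
  exact Cfsg.Agent.S0033.result φ hfix p hp hord

end H16
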